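import Mathlib

/-!
# helper8: two generic normality lemmas
* the fixed subalgebra of an automorphism of an integrally closed domain is integrally closed;
* if `B ↪ C` with `C` an integrally closed domain and `C ⊆ B[1/s]`, then `B[1/s]` is
  integrally closed.
-/

set_option autoImplicit false

namespace Groth.Agent.H8.WqNorm

theorem isIntegrallyClosed_equalizer {R A : Type*} [CommRing R] [CommRing A] [IsDomain A]
    [Algebra R A] [IsIntegrallyClosed A] (σ : A →ₐ[R] A) :
    IsIntegrallyClosed (AlgHom.equalizer σ (AlgHom.id R A)) := by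
  set C := AlgHom.equalizer σ (AlgHom.id R A) with hC
  have hmem : ∀ c : C, σ (c : A) = c := fun c => by
    have := (AlgHom.mem_equalizer σ (AlgHom.id R A) (c : A)).1 c.2
    simpa using this
  rw [isIntegrallyClosed_iff (FractionRing C)]
  intro x hx
  have hinj : Function.Injective ((algebraMap A (FractionRing A)).comp C.val.toRingHom) :=
    (IsFractionRing.injective A (FractionRing A)).comp Subtype.val_injective
  let j : FractionRing C →+* FractionRing A := IsFractionRing.lift hinj
  have hj : ∀ c : C, j (algebraMap C (FractionRing C) c) = algebraMap A (FractionRing A) (c : A) :=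
    fun c => IsFractionRing.lift_algebraMap hinj c
  have hjx : IsIntegral A (j x) := by
    obtain ⟨f, hfm, hfx⟩ := hx
    refine ⟨f.map C.val.toRingHom, hfm.map _, ?_⟩
    rw [Polynomial.eval₂_map]
    have hcomp : (algebraMap A (FractionRing A)).comp C.val.toRingHom =
        j.comp (algebraMap C (FractionRing C)) := by
      ext c; exact (hj c).symm
    rw [hcomp, ← Polynomial.hom_eval₂, hfx, map_zero]
  obtain ⟨a, ha⟩ := IsIntegrallyClosed.algebraMap_eq_of_integral hjx
  obtain ⟨b, c, hc, rfl⟩ := IsFractionRing.div_surjective (A := C) x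
  have hc0' : c ≠ 0 := nonZeroDivisors.ne_zero hc
  have hc0 : (c : A) ≠ 0 := fun h => hc0' (Subtype.ext h)
  have hac : a * (c : A) = (b : A) := by
    apply IsFractionRing.injective A (FractionRing A)
    rw [map_mul, ha, map_div₀, hj, hj, div_mul_cancel₀]
    exact (map_ne_zero_iff _ (IsFractionRing.injective A _)).2 hc0
  have hσa : σ a = a := by
    have h1 : σ a * (c : A) = a * (c : A) := by
      calc σ a * (c : A) = σ a * σ (c : A) := by rw [hmem c]
        _ = σ (a * (c : A)) := (map_mul σ a c).symm
        _ = σ (b : A) := by rw [hac]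
        _ = (b : A) := hmem b
        _ = a * (c : A) := hac.symm
    exact mul_right_cancel₀ hc0 h1
  have haC : a ∈ C := (AlgHom.mem_equalizer σ (AlgHom.id R A) a).2 (by simpa using hσa)
  refine ⟨⟨a, haC⟩, ?_⟩
  have hcK : algebraMap C (FractionRing C) c ≠ 0 :=
    (map_ne_zero_iff _ (IsFractionRing.injective C _)).2 hc0'
  rw [eq_div_iff hcK, ← map_mul]
  congr 1
  exact Subtype.ext hac

theorem isIntegrallyClosed_away_of_injective {B C : Type*} [CommRing B] [CommRing C] [IsDomain C]
    [IsIntegrallyClosed C] (ι : B →+* C) (hι : Function.Injective ι) (s : B) (hs : ι s ≠ 0)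
    (hsurj : ∀ t : C, ∃ (N : ℕ) (b : B), ι b = ι s ^ N * t) :
    IsIntegrallyClosed (Localization.Away s) := by
  let Cs := Localization.Away (ι s)
  have hM : Submonoid.powers (ι s) ≤ nonZeroDivisors C :=
    powers_le_nonZeroDivisors_of_noZeroDivisors hs
  haveI : IsIntegrallyClosed Cs :=
    isIntegrallyClosed_of_isLocalization Cs (Submonoid.powers (ι s)) hM
  letI : Algebra B Cs := ((algebraMap C Cs).comp ι).toAlgebra
  have halg : ∀ b : B, algebraMap B Cs b = algebraMap C Cs (ι b) := fun b => rfl
  have hunit : IsUnit (algebraMap C Cs (ι s)) :=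
    IsLocalization.map_units Cs (⟨ι s, Submonoid.mem_powers _⟩ : Submonoid.powers (ι s))
  haveI : IsLocalization.Away s Cs := by
    refine ⟨?_, ?_, ?_⟩
    · rintro ⟨_, ⟨m, rfl⟩⟩
      rw [halg, map_pow, map_pow]
      exact hunit.pow m
    · intro z
      obtain ⟨⟨t, ⟨_, ⟨m, rfl⟩⟩⟩, hz⟩ := IsLocalization.surj (Submonoid.powers (ι s)) z
      obtain ⟨N, b, hb⟩ := hsurj t
      refine ⟨(b, ⟨s ^ (m + N), ⟨m + N, rfl⟩⟩), ?_⟩
      simp only at hz ⊢
      rw [halg, halg, hb, map_pow, map_pow, map_mul, ← hz, map_pow, map_pow, pow_add]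
      ring
    · intro b b' h
      rw [halg, halg] at h
      have := IsLocalization.injective Cs hM h
      exact ⟨1, by rw [hι this]⟩
  exact IsIntegrallyClosed.of_equiv
    (IsLocalization.algEquiv (Submonoid.powers s) Cs (Localization.Away s)).toRingEquiv

end Groth.Agent.H8.WqNorm
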