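import Mathlib
import Groth.Agent.Lib.Helper9.Misc.WildFrobA
import Groth.Agent.Lib.Helper9.CompleteDVRExt
import Groth.Agent.Lib.Helper8.RigPt.Basic
import Groth.Agent.Lib.Helper8.CTensor2

/-!
# helper8: the Artin–Schreier family `R[u]/(u_i^p - c_i u_i - x_i)` is free of rank `p^n`
and complete for the `(u)`-adic topology (assembly from helper9's `WildFrobA`).
-/

set_option autoImplicit false
universe u

namespace Groth.Agent.H8.WqFree

open Groth.Agent.H9.WildFrob

noncomputable section

variable {R : Type*} [CommRing R] [Nontrivial R] {n p : ℕ}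

/-- the coordinate isomorphism on standard monomials. -/
def coordEquiv (hp : 2 ≤ p) (c x : Fin n → R) : QA p c x ≃ₗ[R] ((Fin n → Fin p) → R) :=
  LinearEquiv.ofLinear (rhobar hp c x) (theta p c x)
    (by
      apply LinearMap.pi_ext
      intro β r
      simp only [LinearMap.comp_apply, LinearMap.id_apply]
      have h1 : theta p c x (Pi.single β r) = r • mkA p c x (mono R β) := by
        unfold theta
        rw [Fintype.linearCombination_apply_single]
      rw [h1, map_smul, rhobar_mk, rho_mono hp]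
      funext γ
      simp only [Pi.smul_apply, Pi.single_apply, smul_eq_mul]
      split_ifs <;> simp)
    (by ext b; exact theta_rhobar hp c x b)

theorem free_QA (hp : 2 ≤ p) (c x : Fin n → R) : Module.Free R (QA p c x) :=
  Module.Free.of_equiv (coordEquiv hp c x).symm

theorem finite_QA (hp : 2 ≤ p) (c x : Fin n → R) : Module.Finite R (QA p c x) :=
  Module.Finite.equiv (coordEquiv hp c x).symm

theorem finrank_QA (hp : 2 ≤ p) (c x : Fin n → R) : Module.finrank R (QA p c x) = p ^ n := by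
  rw [(coordEquiv hp c x).finrank_eq, Module.finrank_fintype_fun_eq_card]
  simp

/-- the ideal generated by the classes of the variables. -/
abbrev MM (p : ℕ) (c x : Fin n → R) : Ideal (QA p c x) :=
  Ideal.map (Ideal.Quotient.mk (II p c x))
    (Ideal.span (Set.range (MvPolynomial.X : Fin n → MvPolynomial (Fin n) R)))

theorem mk_X_mem (c x : Fin n → R) (i : Fin n) :
    Ideal.Quotient.mk (II p c x) (MvPolynomial.X i) ∈ MM p c x :=
  Ideal.mem_map_of_mem _ (Ideal.subset_span ⟨i, rfl⟩)

theorem algebraMap_x_eq (hp : 2 ≤ p) (c x : Fin n → R) (i : Fin n) :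
    algebraMap R (QA p c x) (x i) =
      Ideal.Quotient.mk (II p c x) (MvPolynomial.X i) *
        Ideal.Quotient.mk (II p c x) (MvPolynomial.X i ^ (p - 1) - MvPolynomial.C (c i)) := by
  rw [← map_mul]
  show Ideal.Quotient.mk (II p c x) (MvPolynomial.C (x i)) = _
  rw [Ideal.Quotient.eq]
  have h : MvPolynomial.C (x i) -
      MvPolynomial.X i * (MvPolynomial.X i ^ (p - 1) - MvPolynomial.C (c i)) = - Frel p c x i := by
    have hpp : (MvPolynomial.X i : MvPolynomial (Fin n) R) ^ p =
        MvPolynomial.X i * MvPolynomial.X i ^ (p - 1) := by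
      rw [← pow_succ']; congr 1; omega
    rw [Frel, hpp]; ring
  rw [h]
  exact (II p c x).neg_mem (Ideal.subset_span ⟨i, rfl⟩)

theorem mk_X_pow (c x : Fin n → R) (i : Fin n) :
    Ideal.Quotient.mk (II p c x) (MvPolynomial.X i) ^ p =
      algebraMap R (QA p c x) (c i) * Ideal.Quotient.mk (II p c x) (MvPolynomial.X i) +
        algebraMap R (QA p c x) (x i) := by
  show _ = Ideal.Quotient.mk (II p c x) (MvPolynomial.C (c i)) * _ +
    Ideal.Quotient.mk (II p c x) (MvPolynomial.C (x i))
  rw [← map_pow, ← map_mul, ← map_add, Ideal.Quotient.eq]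
  have h : (MvPolynomial.X i : MvPolynomial (Fin n) R) ^ p -
      (MvPolynomial.C (c i) * MvPolynomial.X i + MvPolynomial.C (x i)) = Frel p c x i := by
    rw [Frel]; ring
  rw [h]
  exact Ideal.subset_span ⟨i, rfl⟩

/-- completeness for the `(u)`-adic topology. -/
theorem isAdicComplete_MM (hp : 2 ≤ p) (c x : Fin n → R) (𝔪 : Ideal R) [IsAdicComplete 𝔪 R]
    (hc : ∀ i, c i ∈ 𝔪) (hx : 𝔪 = Ideal.span (Set.range x)) :
    IsAdicComplete (MM p c x) (QA p c x) := by
  haveI h1 : IsAdicComplete 𝔪 (QA p c x) :=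
    Groth.Agent.H8.RigPt.isAdicComplete_of_basis (Module.Basis.ofEquivFun (coordEquiv hp c x)) 𝔪
  haveI h2 : IsAdicComplete (𝔪.map (algebraMap R (QA p c x))) (QA p c x) :=
    Groth.Agent.H9.CDVR.isAdicComplete_map 𝔪
  have hxm : ∀ i, x i ∈ 𝔪 := fun i => hx ▸ Ideal.subset_span ⟨i, rfl⟩
  have hIJ : 𝔪.map (algebraMap R (QA p c x)) ≤ MM p c x := by
    rw [hx, Ideal.map_span, Ideal.span_le]
    rintro _ ⟨_, ⟨i, rfl⟩, rfl⟩
    rw [SetLike.mem_coe, algebraMap_x_eq hp]
    exact Ideal.mul_mem_right _ _ (mk_X_mem c x i)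
  have hrad : MM p c x ≤ (𝔪.map (algebraMap R (QA p c x))).radical := by
    rw [MM, Ideal.map_le_iff_le_comap, Ideal.span_le]
    rintro _ ⟨i, rfl⟩
    rw [SetLike.mem_coe, Ideal.mem_comap]
    refine ⟨p, ?_⟩
    rw [mk_X_pow]
    exact Ideal.add_mem _ (Ideal.mul_mem_right _ _ (Ideal.mem_map_of_mem _ (hc i)))
      (Ideal.mem_map_of_mem _ (hxm i))
  have hfg : (MM p c x).FG :=
    Ideal.FG.map (Submodule.fg_span (Set.finite_range _)) _
  obtain ⟨N, hN⟩ := Ideal.exists_pow_le_of_le_radical_of_fg hrad hfg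
  exact Groth.Agent.H8.CT.isAdicComplete_of_le_of_pow_le
    (𝔪.map (algebraMap R (QA p c x))) (MM p c x) hIJ N hN

end

end Groth.Agent.H8.WqFree
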