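import Mathlib
import Groth.Agent.Lib.Helper8.Wq.Free

/-!
# helper8: the Artin–Schreier family over an arbitrary finite index type is free of rank
`p ^ card` (transport of `Wq/Free` along a bijection with `Fin m`).
-/

set_option autoImplicit false

namespace Groth.Agent.H8.WqReindex

open Groth.Agent.H9.WildFrob MvPolynomial

noncomputable section

variable {R : Type*} [CommRing R] [Nontrivial R] {σ : Type*} {m : ℕ}

/-- the relations over a general index type. -/
def relS (p : ℕ) (c y : σ → R) (j : σ) : MvPolynomial σ R :=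
  X j ^ p - C (c j) * X j - C (y j)

theorem map_rename (p : ℕ) (c y : σ → R) (e : σ ≃ Fin m) :
    (Ideal.span (Set.range (relS p c y))).map
        ((MvPolynomial.renameEquiv R e : MvPolynomial σ R ≃ₐ[R] MvPolynomial (Fin m) R) :
          MvPolynomial σ R →+* MvPolynomial (Fin m) R) =
      II p (c ∘ e.symm) (y ∘ e.symm) := by
  rw [Ideal.map_span]
  congr 1
  ext q
  constructor
  · rintro ⟨_, ⟨j, rfl⟩, rfl⟩
    refine ⟨e j, ?_⟩
    simp [relS, Frel]
  · rintro ⟨i, rfl⟩
    refine ⟨_, ⟨e.symm i, rfl⟩, ?_⟩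
    simp [relS, Frel]

/-- the transported quotient equivalence. -/
def quotEquiv (p : ℕ) (c y : σ → R) (e : σ ≃ Fin m) :
    (MvPolynomial σ R ⧸ Ideal.span (Set.range (relS p c y))) ≃ₐ[R]
      QA p (c ∘ e.symm) (y ∘ e.symm) :=
  Ideal.quotientEquivAlg _ _ (MvPolynomial.renameEquiv R e) (map_rename p c y e).symm

theorem free_quot {p : ℕ} (hp : 2 ≤ p) (c y : σ → R) (e : σ ≃ Fin m) :
    Module.Free R (MvPolynomial σ R ⧸ Ideal.span (Set.range (relS p c y))) :=
  haveI := Groth.Agent.H8.WqFree.free_QA hp (c ∘ e.symm) (y ∘ e.symm)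
  Module.Free.of_equiv (quotEquiv p c y e).symm.toLinearEquiv

theorem finrank_quot {p : ℕ} (hp : 2 ≤ p) (c y : σ → R) (e : σ ≃ Fin m) :
    Module.finrank R (MvPolynomial σ R ⧸ Ideal.span (Set.range (relS p c y))) = p ^ m := by
  rw [(quotEquiv p c y e).toLinearEquiv.finrank_eq]
  exact Groth.Agent.H8.WqFree.finrank_QA hp (c ∘ e.symm) (y ∘ e.symm)

end

end Groth.Agent.H8.WqReindex
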