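import Mathlib
import Groth.Agent.Lib.Helper8.Wq.Norm
import Groth.Agent.Lib.Helper8.Wq.Reindex
import Groth.Agent.Lib.Helper7.WQKer1
import Groth.Agent.Lib.Helper7.ASInv
import Groth.Agent.H4.WqAut

/-!
# helper8: the complete intersection ring of the minor elements (S15808), assembled from
helper7's `WQKer.ker_eq` / `ASInv.main_quot`, helper4's `WqAut.shiftEquiv`, helper9's coordinates.
-/

set_option autoImplicit false

namespace Groth.Agent.H8.WqCI

open MvPolynomial Groth.Agent.H7 Groth.Agent.H4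

noncomputable section

variable {R : Type*} [CommRing R] [IsDomain R] {n : ℕ} (p : ℕ) [hp : Fact p.Prime] [CharP R p]
  (μ : R) (a x : Fin n → R) (i₀ : Fin n)

abbrev II : Ideal (MvPolynomial (Fin n) R) := Ideal.span (Set.range (WQKer.f p μ a x))

abbrev AA := MvPolynomial (Fin n) R ⧸ II p μ a x

abbrev JJ : Ideal (MvPolynomial {j : Fin n // j ≠ i₀} R) :=
  Ideal.span (Set.range (WQKer.r p μ a x i₀))

abbrev BB := MvPolynomial {j : Fin n // j ≠ i₀} R ⧸ JJ p μ a x i₀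

/-- the map `B → A`, `Z_j ↦ z_j`. -/
def phi (hμa : ∀ i, μ * a i ≠ 0) : BB p μ a x i₀ →ₐ[R] AA p μ a x :=
  Ideal.Quotient.liftₐ (JJ p μ a x i₀) (aeval (WQKer.z a i₀ (II p μ a x))) (by
    intro q hq
    have h : q ∈ RingHom.ker (aeval (WQKer.z a i₀ (II p μ a x)) :
        MvPolynomial {j : Fin n // j ≠ i₀} R →ₐ[R] AA p μ a x) := by
      rw [WQKer.ker_eq p μ a x i₀ (II p μ a x) rfl hμa]; exact hq
    exact (RingHom.mem_ker).1 h)

theorem phi_mk (hμa : ∀ i, μ * a i ≠ 0) (q : MvPolynomial {j : Fin n // j ≠ i₀} R) :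
    phi p μ a x i₀ hμa (Ideal.Quotient.mk _ q) = aeval (WQKer.z a i₀ (II p μ a x)) q := by
  unfold phi
  rw [Ideal.Quotient.liftₐ_apply, Ideal.Quotient.lift_mk]
  rfl

theorem phi_injective (hμa : ∀ i, μ * a i ≠ 0) : Function.Injective (phi p μ a x i₀ hμa) := by
  rw [injective_iff_map_eq_zero]
  intro b hb
  obtain ⟨q, rfl⟩ := Ideal.Quotient.mk_surjective b
  rw [phi_mk] at hb
  have h2 : q ∈ RingHom.ker (aeval (WQKer.z a i₀ (II p μ a x)) :
      MvPolynomial {j : Fin n // j ≠ i₀} R →ₐ[R] AA p μ a x) := hb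
  rw [WQKer.ker_eq p μ a x i₀ (II p μ a x) rfl hμa] at h2
  exact Ideal.Quotient.eq_zero_iff_mem.2 h2

theorem algebraMap_injective : Function.Injective (algebraMap R (AA p μ a x)) :=
  WqA.algebraMap_injective p (fun i => μ * a i) x hp.out.two_le

/-- the automorphism `u_i ↦ u_i + μ a_i`. -/
def sigma : AA p μ a x ≃ₐ[R] AA p μ a x :=
  haveI : CharP (WqA.QA p (fun i => μ * a i) x) p :=
    charP_of_injective_algebraMap (algebraMap_injective p μ a x) p
  WqAut.shiftEquiv p (fun i => μ * a i) x 1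

theorem sigma_u (i : Fin n) :
    sigma p μ a x (Ideal.Quotient.mk _ (X i)) =
      Ideal.Quotient.mk _ (X i) + algebraMap R (AA p μ a x) (μ * a i) := by
  haveI : CharP (WqA.QA p (fun i => μ * a i) x) p :=
    charP_of_injective_algebraMap (algebraMap_injective p μ a x) p
  have h := WqAut.shiftHom_u p (fun i => μ * a i) x 1 i
  simp only [Pi.one_apply, map_one, one_mul] at h
  exact h

theorem sigma_z (j : {j : Fin n // j ≠ i₀}) :
    sigma p μ a x (WQKer.z a i₀ (II p μ a x) j) = WQKer.z a i₀ (II p μ a x) j := by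
  unfold WQKer.z
  rw [map_sub, map_mul, map_mul, AlgEquiv.commutes, AlgEquiv.commutes, sigma_u, sigma_u]
  simp only [map_mul]
  ring

theorem phi_X (hμa : ∀ i, μ * a i ≠ 0) (j : {j : Fin n // j ≠ i₀}) :
    phi p μ a x i₀ hμa (Ideal.Quotient.mk _ (X j)) = WQKer.z a i₀ (II p μ a x) j := by
  rw [phi_mk, aeval_X]

theorem sigma_phi (hμa : ∀ i, μ * a i ≠ 0) (b : BB p μ a x i₀) :
    sigma p μ a x (phi p μ a x i₀ hμa b) = phi p μ a x i₀ hμa b := by
  have h : ((sigma p μ a x : AA p μ a x →ₐ[R] AA p μ a x).comp (phi p μ a x i₀ hμa)) =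
      phi p μ a x i₀ hμa := by
    apply Ideal.Quotient.algHom_ext
    apply MvPolynomial.algHom_ext
    intro j
    simp only [AlgHom.comp_apply, Ideal.Quotient.mkₐ_eq_mk]
    rw [phi_X]
    exact sigma_z p μ a x i₀ j
  exact AlgHom.congr_fun h b

/-- the fixed subalgebra. -/
abbrev CC : Subalgebra R (AA p μ a x) :=
  AlgHom.equalizer (sigma p μ a x : AA p μ a x →ₐ[R] AA p μ a x) (AlgHom.id R _)

theorem mem_CC (t : AA p μ a x) : t ∈ CC p μ a x ↔ sigma p μ a x t = t := by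
  rw [AlgHom.mem_equalizer]; rfl

/-- `B → A^σ`. -/
def iota (hμa : ∀ i, μ * a i ≠ 0) : BB p μ a x i₀ →ₐ[R] CC p μ a x :=
  (phi p μ a x i₀ hμa).codRestrict (CC p μ a x)
    (fun b => (mem_CC p μ a x _).2 (sigma_phi p μ a x i₀ hμa b))

theorem iota_coe (hμa : ∀ i, μ * a i ≠ 0) (b : BB p μ a x i₀) :
    ((iota p μ a x i₀ hμa b : CC p μ a x) : AA p μ a x) = phi p μ a x i₀ hμa b := rfl

theorem exists_phi_eq (hμa : ∀ i, μ * a i ≠ 0) (t : AA p μ a x) (ht : sigma p μ a x t = t) :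
    ∃ (N : ℕ) (b : BB p μ a x i₀),
      phi p μ a x i₀ hμa b = algebraMap R (AA p μ a x) (μ * a i₀) ^ N * t := by
  have hpR : ((p : ℕ) : R) = 0 := CharP.cast_eq_zero R p
  obtain ⟨N, hN⟩ := ASInv.main_quot (II p μ a x) hp.out hpR μ a i₀ (x i₀)
    (Ideal.subset_span ⟨i₀, rfl⟩) (sigma p μ a x) (sigma_u p μ a x) t ht
  refine ⟨N, ?_⟩
  have hle : Algebra.adjoin R (Set.range fun j : {j : Fin n // j ≠ i₀} =>
        algebraMap R (AA p μ a x) (a i₀) * Ideal.Quotient.mk (II p μ a x) (X j.1)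
          - algebraMap R (AA p μ a x) (a j.1) * Ideal.Quotient.mk (II p μ a x) (X i₀)) ≤
      (phi p μ a x i₀ hμa).range := by
    apply Algebra.adjoin_le
    rintro _ ⟨j, rfl⟩
    exact ⟨Ideal.Quotient.mk _ (X j), phi_X p μ a x i₀ hμa j⟩
  obtain ⟨b, hb⟩ := hle hN
  exact ⟨b, hb⟩

theorem card_ne : Fintype.card {j : Fin n // j ≠ i₀} = n - 1 := by
  simp [Fintype.card_subtype_compl]

theorem JJ_eq : JJ p μ a x i₀ = Ideal.span (Set.range (WqReindex.relS p
    (fun j : {j : Fin n // j ≠ i₀} => (μ * a i₀ * a j.1) ^ (p - 1))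
    (fun j : {j : Fin n // j ≠ i₀} => a i₀ ^ p * x j.1 - a j.1 ^ p * x i₀))) := rfl

theorem main [IsDomain (AA p μ a x)] [IsIntegrallyClosed (AA p μ a x)]
    (hμa : ∀ i, μ * a i ≠ 0) :
    Module.Free R (BB p μ a x i₀) ∧ Module.finrank R (BB p μ a x i₀) = p ^ (n - 1) ∧
      IsDomain (BB p μ a x i₀) ∧
      IsIntegrallyClosed (Localization.Away (algebraMap R (BB p μ a x i₀) (μ * a i₀))) := by
  have hp2 : 2 ≤ p := hp.out.two_le
  let e : {j : Fin n // j ≠ i₀} ≃ Fin (n - 1) := Fintype.equivFinOfCardEq (card_ne i₀)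
  refine ⟨?_, ?_, ?_, ?_⟩
  · exact WqReindex.free_quot hp2 _ _ e
  · exact WqReindex.finrank_quot hp2 _ _ e
  · exact Function.Injective.isDomain (phi p μ a x i₀ hμa).toRingHom (phi_injective p μ a x i₀ hμa)
  · haveI : IsIntegrallyClosed (CC p μ a x) :=
      WqNorm.isIntegrallyClosed_equalizer (sigma p μ a x : AA p μ a x →ₐ[R] AA p μ a x)
    have hιs : (iota p μ a x i₀ hμa).toRingHom (algebraMap R (BB p μ a x i₀) (μ * a i₀)) =
        algebraMap R (CC p μ a x) (μ * a i₀) := (iota p μ a x i₀ hμa).commutes _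
    refine WqNorm.isIntegrallyClosed_away_of_injective (iota p μ a x i₀ hμa).toRingHom ?_
      (algebraMap R (BB p μ a x i₀) (μ * a i₀)) ?_ ?_
    · intro b b' h
      apply phi_injective p μ a x i₀ hμa
      exact congrArg Subtype.val h
    · rw [hιs]
      intro h
      have h' : algebraMap R (AA p μ a x) (μ * a i₀) = 0 := congrArg Subtype.val h
      exact hμa i₀ ((map_eq_zero_iff _ (algebraMap_injective p μ a x)).1 h')
    · intro t
      obtain ⟨N, b, hb⟩ := exists_phi_eq p μ a x i₀ hμa (t : AA p μ a x)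
        ((mem_CC p μ a x _).1 t.2)
      refine ⟨N, b, ?_⟩
      rw [hιs]
      apply Subtype.ext
      exact hb

end

end Groth.Agent.H8.WqCI
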